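import Groth.Agent.Coherent.K51.CIDim
import Groth.Agent.S14334
import Groth.Agent.Picfga.CurveRelDim
import Groth.Agent.JacVar.K533.CurveBasic
import Groth.Agent.Fano.K714.RatDef
import Groth.Prelude.Def_Omega2
import Groth.Prelude.Def_FlatMod2

/-!
# A smooth cubic threefold is integral and smooth of relative dimension three (light imports)
-/

set_option autoImplicit false
universe u
open CategoryTheory CategoryTheory.Limits AlgebraicGeometry TopologicalSpace Opposite

namespace K335.CubicDim

open Groth.Agent.Fano.K714.Rat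

variable {k : Type u} [Field k] (f : LefPen.Form 4 k 3)

theorem hyp_eq_ci : LefPen.ciIdeal (fun _ : Fin 1 => f) = LefPen.hypIdeal f := by
  rw [LefPen.ciIdeal, iSup_unique]

theorem isReg_one {N : ℕ} {a : ℕ} (F : LefPen.Form N k a) (hF : F.1 ≠ 0) :
    Groth.Agent.Coherent.K51.CIReg.IsReg (fun _ : Fin 1 => F) := by
  intro c g hg
  have hc : ((fun _ : Fin 1 => F.1) '' {j | j < c}) = (∅ : Set (MvPolynomial (Fin (N + 1)) k)) := by
    rw [Set.image_eq_empty, Set.eq_empty_iff_forall_notMem]
    intro j hj
    have hj' : j < c := hj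
    omega
  rw [hc, Ideal.span_empty, Ideal.mem_bot] at hg ⊢
  exact (mul_eq_zero.1 hg).resolve_left hF

theorem dim_gen (I : (CohB1.ProjSpace 4 k).IdealSheafData) (hI : LefPen.ciIdeal (fun _ : Fin 1 => f) = I)
    (hf : f ≠ 0) [Nonempty I.subscheme] : topologicalKrullDim I.subscheme = 3 := by
  subst hI
  have h0 : f.1 ≠ 0 := fun h => hf (Subtype.ext h)
  exact Groth.Agent.Coherent.K51.CIDim.dim_eq_of_isReg (isReg_one f h0)

theorem conn_gen (I : (CohB1.ProjSpace 4 k).IdealSheafData) (hI : LefPen.ciIdeal (fun _ : Fin 1 => f) = I)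
    (hdim : topologicalKrullDim I.subscheme = 3) :
    GeometricallyConnected (I.subschemeι ≫ CohB1.ProjSpace.toSpec 4 k) := by
  subst hI
  exact Groth.Agent.S14334.result k 4 1 (by norm_num) _ (fun _ => by norm_num) _ hdim (by norm_num)

/-- A smooth cubic threefold is integral. -/
theorem isIntegral [IsAlgClosed k] (hf : f ≠ 0) [Smooth (ps f)] [Nonempty (Xf f)] : IsIntegral (Xf f) := by
  have hdim := dim_gen f _ (hyp_eq_ci f) hf
  have hconn : GeometricallyConnected (ps f) := conn_gen f _ (hyp_eq_ci f) hdim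
  exact K533.CurveBasic.isIntegral (ps f)

/-- A smooth cubic threefold is smooth of relative dimension three. -/
theorem relDim_three [IsAlgClosed k] (hf : f ≠ 0) [Smooth (ps f)] [Nonempty (Xf f)] :
    SmoothOfRelativeDimension 3 (ps f) := by
  have hdim := dim_gen f _ (hyp_eq_ci f) hf
  have hint := isIntegral f hf
  exact Groth.Agent.Picfga.CurveRelDim.smoothOfRelativeDimension_of_topologicalKrullDim_eq k (Xf f) (ps f) 3 hdim

end K335.CubicDim
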