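import Groth.Agent.Sga2.PnHomExact
import Groth.Agent.ProjDual.K273.InvHom
import Groth.Agent.CohDim.K685.FinLes
import Groth.Agent.JacVar.K533.CurveH1
import Groth.Agent.Curves.K320.DegTools
import Groth.Agent.Grpsch.PicGrp
import Groth.Agent.VBCurve.K703.Det2
import Groth.Agent.VarietyA.EulerAdd
import Groth.Agent.Fga.HShift
import Groth.Agent.Ega2.QCohLocal
import Groth.Agent.PerfB.TensInv

/-!
# Cohomology of the dual of a rank two bundle filtered by line bundles of negative degree, on a curve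
-/

set_option autoImplicit false
universe u

open CategoryTheory CategoryTheory.Limits AlgebraicGeometry TopologicalSpace Opposite

namespace K335.NormCurve

open Groth.Agent Groth.Agent.CohqB.HomSheaf Groth.Agent.Sga2.PnHomAdj Groth.Agent.Sga2.PnHomExact
open Groth.Agent.VarietyA.EulerLES

theorem fin_of_inv {X : Scheme.{u}} {L : X.Modules} (hL : PicF.IsInvertible L) : FlatMod.IsFinLocFree L :=
  Ega2.QCohLocal.isFinLocFree_of_rank (K703.Det2.inv_iff.2 hL)

/-- The dual of an invertible module. -/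
theorem exists_dual {X : Scheme.{u}} {L : X.Modules} (hL : PicF.IsInvertible L) :
    ∃ I : X.Modules, PicF.IsInvertible I ∧ Nonempty (CohB1.tensorMod L I ≅ Coh.structureModule X) ∧
      Nonempty (homSheaf L (Coh.structureModule X) ≅ I) := by
  obtain ⟨I, hI, ⟨e⟩⟩ := Grpsch.PicGrp.exists_inverse hL
  exact ⟨I, hI, ⟨e⟩, ⟨K273.InvHom.homIso e _ ≪≫ Ega2.Tens.lunit I⟩⟩

/-- the value of the internal Hom functor -/
noncomputable def homFobj {X : Scheme.{u}} (M N : X.Modules) : (homF M).obj N ≅ homSheaf M N := Iso.refl _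

/-- the value of the chosen internal Hom functor -/
noncomputable def shIso {X : Scheme.{u}} (M : X.Modules) [DCoh.HasSheafHom M] (N : X.Modules) :
    (DCoh.sheafHom M).obj N ≅ (homF M).obj N := (sheafHomIso M).app N

theorem coh_of_homSheaf (k : Type u) [Field k] {X : Scheme.{u}} [X.Over (Spec (CommRingCat.of k))] {M : X.Modules}
    [DCoh.HasSheafHom M] (h : Subsingleton (Coh.HH X (homSheaf M (Coh.structureModule X)) 1)) :
    Subsingleton (Coh.HH X ((DCoh.sheafHom M).obj (Coh.structureModule X)) 1) ∧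
      Module.finrank k (Coh.HH X ((DCoh.sheafHom M).obj (Coh.structureModule X)) 0) =
        Module.finrank k (Coh.HH X (homSheaf M (Coh.structureModule X)) 0) := by
  let φ := shIso M (Coh.structureModule X) ≪≫ homFobj M (Coh.structureModule X)
  exact ⟨Fga.HShift.subsingleton_of_iso φ.symm 1 h, (equivA k φ 0).finrank_eq⟩

variable (k : Type u) [Field k] {X : Scheme.{u}} [X.Over (Spec (CommRingCat.of k))]
  [IsProper (X ↘ (Spec (CommRingCat.of k)))] [IsIntegral X]

omit [IsProper (X ↘ Spec (CommRingCat.of k))] [IsIntegral X] in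
/-- additivity for `H⁰` -/
theorem finrank_add (S : ShortComplex X.Modules) (hS : S.ShortExact)
    (h1 : Subsingleton (Coh.HH X S.X₁ 1)) (hf : Module.Finite k (Coh.HH X S.X₂ 0)) :
    Module.finrank k (Coh.HH X S.X₂ 0) =
      Module.finrank k (Coh.HH X S.X₁ 0) + Module.finrank k (Coh.HH X S.X₃ 0) := by
  have hs : Function.Surjective (VarietyA.EulerLES.mapA k S.g 0) := by
    intro x
    exact (VarietyA.EulerLES.exactA₃ k S hS 0 1 rfl x).mp (Subsingleton.elim _ _)
  rw [VarietyA.EulerAdd.finrank_eq k S hS 0, ← VarietyA.EulerAdd.finrank_eq₀ k S hS,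
    LinearMap.range_eq_top.mpr hs, finrank_top]

theorem dual_coh (hdim : topologicalKrullDim X = 1)
    (h0 : Module.finrank k (Coh.HH X (Coh.structureModule X) 0) = 1) {L : X.Modules}
    (hL : PicF.IsInvertible L) (hdeg : 2 * (Curv2.genus k X : ℤ) - 2 < - Curv2.deg k X L 1) :
    Subsingleton (Coh.HH X (homSheaf L (Coh.structureModule X)) 1) ∧
      Module.Finite k (Coh.HH X (homSheaf L (Coh.structureModule X)) 0) ∧
      (Module.finrank k (Coh.HH X (homSheaf L (Coh.structureModule X)) 0) : ℤ) =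
        - Curv2.deg k X L 1 + 1 - Curv2.genus k X := by
  obtain ⟨I, hI, e, ⟨φ⟩⟩ := exists_dual hL
  have hd : Curv2.deg k X I 1 = - Curv2.deg k X L 1 := K320.DegTools.deg_inverse k hdim.le hL hI e
  have h1 := K533.CurveH1.subsingleton_H1 k hdim h0 hI (by rw [hd]; exact hdeg)
  have h2 := K533.CurveH1.h0_eq k hdim h0 hI (by rw [hd]; exact hdeg)
  have f0 := K533.CurveH1.finite k hI 0
  have e0 := equivA k φ 0
  refine ⟨Fga.HShift.subsingleton_of_iso φ.symm 1 h1, Module.Finite.equiv e0.symm, ?_⟩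
  rw [e0.finrank_eq, h2, hd]

/-- The cohomology of the dual of an extension of line bundles of degree `< 2 - 2 g`. -/
theorem normal_coh (hdim : topologicalKrullDim X = 1)
    (h0 : Module.finrank k (Coh.HH X (Coh.structureModule X) 0) = 1) {S : ShortComplex X.Modules}
    (hS : S.ShortExact) (h₁ : PicF.IsInvertible S.X₁) (h₂ : FlatMod.IsFinLocFree S.X₂) (h₃ : PicF.IsInvertible S.X₃)
    (hd₁ : 2 * (Curv2.genus k X : ℤ) - 2 < - Curv2.deg k X S.X₁ 1)
    (hd₃ : 2 * (Curv2.genus k X : ℤ) - 2 < - Curv2.deg k X S.X₃ 1) [DCoh.HasSheafHom S.X₂] :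
    Subsingleton (Coh.HH X ((DCoh.sheafHom S.X₂).obj (Coh.structureModule X)) 1) ∧
      (Module.finrank k (Coh.HH X ((DCoh.sheafHom S.X₂).obj (Coh.structureModule X)) 0) : ℤ) =
        - Curv2.deg k X S.X₁ 1 - Curv2.deg k X S.X₃ 1 + 2 - 2 * Curv2.genus k X := by
  have hT := shortExact_homSC hS
    (Ega2.QCohLocal.isQCoh_of_isFinLocFree (fin_of_inv h₁))
    (Ega2.QCohLocal.isQCoh_of_isFinLocFree h₂) (fin_of_inv h₃)
    (Coh.structureModule X)
  obtain ⟨a1, a2, a3⟩ := dual_coh k hdim h0 h₁ hd₁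
  obtain ⟨b1, b2, b3⟩ := dual_coh k hdim h0 h₃ hd₃
  have c1 : Subsingleton (Coh.HH X (homSheaf S.X₂ (Coh.structureModule X)) 1) :=
    Fga.HShift.subsingleton₂ hT 1 b1 a1
  have c2 : Module.Finite k (Coh.HH X (homSheaf S.X₂ (Coh.structureModule X)) 0) :=
    K685.FinLes.finite₂ k hT 0 b2 a2
  have c3 : Module.finrank k (Coh.HH X (homSheaf S.X₂ (Coh.structureModule X)) 0) =
      Module.finrank k (Coh.HH X (homSheaf S.X₃ (Coh.structureModule X)) 0) +
        Module.finrank k (Coh.HH X (homSheaf S.X₁ (Coh.structureModule X)) 0) :=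
    finrank_add k (homSC S (Coh.structureModule X)) hT b1 c2
  obtain ⟨d1, d2⟩ := coh_of_homSheaf k (M := S.X₂) c1
  refine ⟨d1, ?_⟩
  rw [d2, c3]
  push_cast
  rw [a3, b3]
  ring

end K335.NormCurve
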