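import Groth.Agent.Fano.K335.QuintSeq
import Groth.Agent.Fano.K335.NormCurve
import Groth.Agent.Fano.K560.RegPt
import Groth.Agent.Fano.K335.CubicDim
import Groth.Agent.LefPen.K287.Hyp
import Groth.Agent.S7772
import Groth.Agent.Dual.H366.ExtQCoh
import Groth.Agent.Picfga.CurveRelDim
import Groth.Agent.VBCurve.K703.Det2
import Groth.Agent.Curves.K321.SubLoc
import Groth.Agent.Curves.K328.Serre

/-!
# The Hilbert scheme of a cubic threefold at a quintic curve of genus two

`regular_quint_of`: for the curve `V_+(c_G q)` along which the hyperplane section `v₀ = 0` is smooth, the Hilbert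
scheme is regular of dimension ten at the point of the curve, the curve being given with its invariants
(genus two and degree five).
-/

set_option autoImplicit false
universe u

open CategoryTheory CategoryTheory.Limits AlgebraicGeometry TopologicalSpace Opposite

namespace K335.QuintReg

open Groth.Agent Groth.Agent.Grpsch.PicGrp Groth.Agent.Lefpen.H21.PicTwist K328.PicCalc
open Groth.Agent.Fano.K714.Rat Groth.Agent.Fano.K714.Quart Groth.Agent.Fano.K715.Quint

variable {k : Type u} [Field k] [IsAlgClosed k]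

omit [IsAlgClosed k] in
theorem dg_zpow' {X : Scheme.{u}} [X.Over (Spec (CommRingCat.of k))] [IsProper (X ↘ (Spec (CommRingCat.of k)))]
    [IsIntegral X] (hdim : topologicalKrullDim X = 1) (a : Pic X) (n : ℕ) :
    dg k X (a ^ (-(n : ℤ))) = - (n * dg k X a) := by
  rw [zpow_neg, zpow_natCast, dg_inv k X hdim, dg_pow k X hdim]

/-- The normal bundle of the curve. -/
theorem normal (f : LefPen.Form 4 k 3) (hf : f ≠ 0) [Smooth (ps f)] (q : DataG k) (hq : q.1 ∈ Sol f)
    (ht : Transv f q) (i : (cG q).subscheme ⟶ Xf f) [IsClosedImmersion i] (hi : i ≫ emb f = (cG q).subschemeι)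
    (hker : i.ker = (cG q).comap (emb f)) [IsIntegral (cG q).subscheme]
    [(cG q).subscheme.Over (Spec (CommRingCat.of k))] (hs : i ≫ ps f = (cG q).subscheme ↘ Spec (CommRingCat.of k))
    (hX : Curve.IsSmoothProperCurve k (cG q).subscheme ((cG q).subscheme ↘ Spec (CommRingCat.of k)))
    (hgen : Curv2.genus k (cG q).subscheme = 2)
    (hdeg : Curv2.deg k (cG q).subscheme ((Scheme.Modules.pullback (i ≫ emb f)).obj
      (Twist.twistProjSpace 4 k 1)) 1 = 5)
    [DCoh.HasSheafHom (Omega.conormal i)] :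
    Subsingleton (Coh.HH (cG q).subscheme
        ((DCoh.sheafHom (Omega.conormal i)).obj (Coh.structureModule (cG q).subscheme)) 1) ∧
      Module.finrank k (Coh.HH (cG q).subscheme
        ((DCoh.sheafHom (Omega.conormal i)).obj (Coh.structureModule (cG q).subscheme)) 0) = 10 := by
  have hp : IsProper ((cG q).subscheme ↘ Spec (CommRingCat.of k)) := hX.1
  have hsm : Smooth ((cG q).subscheme ↘ Spec (CommRingCat.of k)) := hX.2.1
  have hdim := hX.2.2.2
  have hne : Nonempty (cG q).subscheme := inferInstance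
  have hneX : Nonempty (Xf f) := hne.map i
  have h3 := CubicDim.relDim_three f hf
  have hXint : IsIntegral (Xf f) := CubicDim.isIntegral f hf
  have h1 : SmoothOfRelativeDimension 1 ((cG q).subscheme ↘ Spec (CommRingCat.of k)) :=
    Picfga.CurveRelDim.smoothOfRelativeDimension_of_topologicalKrullDim_eq k _ _ 1 hdim
  have h1' : SmoothOfRelativeDimension 1 (i ≫ ps f) := by rw [hs]; exact h1
  have hs1 : Smooth (i ≫ ps f) := by rw [hs]; exact hsm
  have hr1 := Groth.Agent.Dual.H339.OmegaRank.isFinLocFreeOfRank_omega 1 ((cG q).subscheme ↘ Spec (CommRingCat.of k))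
  have hr3 := Groth.Agent.Dual.H339.OmegaRank.isFinLocFreeOfRank_omega 3 (ps f)
  have hC : FlatMod.IsFinLocFreeOfRank 2 (Omega.conormal i) :=
    K935.SmoothImm.isFinLocFreeOfRank_conormal i (ps f) (r := 2) (by norm_num) hr3
      (Groth.Agent.Dual.H339.OmegaRank.isFinLocFreeOfRank_omega 1 (i ≫ ps f))
  have hCf := Groth.Agent.Krr.H487.KerRank.isFinLocFree_of_rank hC
  obtain ⟨L, φ, hmono, hL, ⟨e⟩, hcok⟩ := QuintSeq.seq f q hq ht i hi hker hCf
  have hS := VarietyA.StalkCrit.shortExact_cokernel φ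
  have hN : IsNoetherian (cG q).subscheme := K321.SubLoc.isNoetherian _ k
  -- the cokernel is invertible
  have hQ : PicF.IsInvertible (cokernel φ) := by
    have h4 := K321.SubLoc.isFinLocFreeOfRank_rk hcok
    have h5 := VarietyA.DegRank.rk_add _ hS (K321.SubLoc.isCoh_of_rank hC)
    change VarietyA.DegRank.rk (Omega.conormal i) = VarietyA.DegRank.rk L + VarietyA.DegRank.rk (cokernel φ) at h5
    rw [K321.SubLoc.rk_eq hC, K321.SubLoc.rk_eq (K703.Det2.inv_iff.2 hL)] at h5
    have h6 : VarietyA.DegRank.rk (cokernel φ) = 1 := by omega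
    rw [h6] at h4
    exact K703.Det2.inv_iff.1 h4
  -- degrees
  have h01 : hh k (cG q).subscheme 0 1 = 1 := K328.Genus9.hh_one_one k (cG q).subscheme
  have hdL : Curv2.deg k (cG q).subscheme L 1 = -5 := by
    have h4 : mk L hL = hyp (i ≫ emb f) ^ (-1 : ℤ) := (mk_eq_hyp_zpow_iff _ _ _).2 ⟨e⟩
    have h5 : dg k (cG q).subscheme (hyp (i ≫ emb f)) = 5 := by
      have h6 := mk_pullback_twist (i ≫ emb f) 1
      rw [zpow_one] at h6
      rw [← h6, dg_mk]
      exact hdeg
    have h7 := dg_zpow' (k := k) hdim (hyp (i ≫ emb f)) 1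
    rw [← dg_mk k (cG q).subscheme hL, h4]
    push_cast at h7
    rw [h7, h5]
    norm_num
  have hdQ : Curv2.deg k (cG q).subscheme (cokernel φ) 1 = -7 := by
    obtain ⟨W, hW⟩ := Groth.Agent.Dual.H366.ExtQCoh.exists_isExtPow 3
      (Groth.Agent.Ega2.QCohLocal.isQCoh_of_isFinLocFree (Groth.Agent.Krr.H487.KerRank.isFinLocFree_of_rank hr3))
    have hWi := K287.OmegaPn.isInvertible_extPow hr3 hW
    obtain ⟨D, hD, hDi⟩ := K703.Det2.exists_det hC
    have hw := K287.Hyp.mk_omega f (fun h => hf (Subtype.ext h)) 3 rfl hW hWi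
    obtain ⟨-, ⟨e7⟩⟩ := Groth.Agent.S7772.result _ _ _ (ps f) ((cG q).subscheme ↘ Spec (CommRingCat.of k)) 3 1
      (by norm_num) i hs W hW (Omega.sheaf ((cG q).subscheme ↘ Spec (CommRingCat.of k)))
      (Groth.Agent.Sga67.TensorOps.isExtPow_one _) D hD
    have hΩ : PicF.IsInvertible (Omega.sheaf ((cG q).subscheme ↘ Spec (CommRingCat.of k))) := K703.Det2.inv_iff.1 hr1
    have h4 : pull i (mk W hWi) = mk _ hΩ * mk D hDi := by
      rw [pull_mk, mk_mul_mk]
      exact mk_congr e7
    have h5 : pull i (hyp (emb f)) = hyp (i ≫ emb f) := by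
      rw [hyp, hyp, o, pull_mk, pull_mk, pull_mk, mk_eq_iff]
      exact ⟨(Scheme.Modules.pullbackComp i (emb f)).app _⟩
    have h6 := K703.Det2.det_ext hS hL hQ hD hDi
    have h7 : dg k (cG q).subscheme (hyp (i ≫ emb f)) = 5 := by
      have h6 := mk_pullback_twist (i ≫ emb f) 1
      rw [zpow_one] at h6
      rw [← h6, dg_mk]
      exact hdeg
    have h8 : dg k (cG q).subscheme (mk _ hΩ) = 2 := by
      have := K328.Serre.dg_K k (cG q).subscheme hX h01
      rw [hgen] at this
      exact this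
    rw [hw, map_zpow, h5, h6] at h4
    have h9 := congrArg (dg k (cG q).subscheme) h4
    rw [show ((3 : ℕ) : ℤ) - (((4 : ℕ) : ℤ) + 1) = -((2 : ℕ) : ℤ) by norm_num, dg_zpow' (k := k) hdim, dg_mul k _ hdim, dg_mul k _ hdim,
      h7, h8, dg_mk, dg_mk] at h9
    change -((2 : ℕ) * 5) = 2 + (Curv2.deg k (cG q).subscheme L 1 + Curv2.deg k (cG q).subscheme (cokernel φ) 1) at h9
    rw [hdL] at h9
    push_cast at h9
    linarith
  obtain ⟨a1, a2⟩ := NormCurve.normal_coh k hdim h01 hS hL hCf hQ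
    (by change _ < - Curv2.deg k (cG q).subscheme L 1; rw [hgen, hdL]; norm_num)
    (by change _ < - Curv2.deg k (cG q).subscheme (cokernel φ) 1; rw [hgen, hdQ]; norm_num)
  refine ⟨a1, ?_⟩
  change ((Module.finrank k (Coh.HH (cG q).subscheme
        ((DCoh.sheafHom (Omega.conormal i)).obj (Coh.structureModule (cG q).subscheme)) 0) : ℕ) : ℤ) =
      - Curv2.deg k (cG q).subscheme L 1 - Curv2.deg k (cG q).subscheme (cokernel φ) 1 + 2 -
        2 * Curv2.genus k (cG q).subscheme at a2
  rw [hdL, hdQ, hgen] at a2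
  push_cast at a2
  omega

theorem regular_quint_of [CharZero k] (f : LefPen.Form 4 k 3) (hf : f ≠ 0) [Smooth (ps f)]
    (H : Over (Spec (CommRingCat.of k))) (Z : FGA.HilbSet (ps f) H)
    (hH : FGA.HilbRepresentedBy (ps f) H Z) (q : DataG k) (hq : q.1 ∈ Sol f) (hgood : GoodG q)
    (ht : Transv f q)
    (hB : ∃ (i : (cG q).subscheme ⟶ Xf f), i ≫ emb f = (cG q).subschemeι ∧ IsClosedImmersion i ∧
      i.ker = (cG q).comap (emb f) ∧ IsIntegral (cG q).subscheme ∧ IsProper (i ≫ ps f) ∧
      @Curv2.genus k _ (cG q).subscheme ⟨i ≫ ps f⟩ = 2 ∧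
      @Curv2.deg k _ (cG q).subscheme ⟨i ≫ ps f⟩ ((Scheme.Modules.pullback (i ≫ emb f)).obj
        (Twist.twistProjSpace 4 k 1)) 1 = 5)
    (x : ↥H.left) (hx : IsClassG f H Z q x) :
    IsRegularLocalRing (H.left.presheaf.stalk x) ∧ ringKrullDim (H.left.presheaf.stalk x) = 10 := by
  obtain ⟨i, hi, hcl, hker, hint, hpr, hgen, hdeg⟩ := hB
  let _ : (cG q).subscheme.Over (Spec (CommRingCat.of k)) := ⟨i ≫ ps f⟩
  have hsm : Smooth (i ≫ ps f) := by
    have h1 : i ≫ ps f = (cG q).subschemeι ≫ CohB1.ProjSpace.toSpec 4 k := by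
      rw [← hi, Category.assoc]
    rw [h1]
    exact hgood.1
  have hX : Curve.IsSmoothProperCurve k (cG q).subscheme ((cG q).subscheme ↘ Spec (CommRingCat.of k)) :=
    ⟨hpr, hsm, hint, hgood.2⟩
  have := Groth.Agent.Sga2.PnHomAdj.hasSheafHom (Omega.conormal i)
  obtain ⟨h1, h2⟩ := normal f hf q hq ht i hi hker rfl hX hgen hdeg
  have hp : IsProper (ps f) := inferInstance
  obtain ⟨h, rfl, hh⟩ := hx
  have h3 := K560.RegPt.regular_of i (ps f) rfl H Z hH (K935.SmoothImm.isRegularClosedImmersion i (ps f)) h1 h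
    (by rw [hh, hker])
  refine ⟨h3.1, h3.2.trans ?_⟩
  rw [h2]
  rfl

end K335.QuintReg
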