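import Groth.Agent.Lefpen.H703.NondegQuadCrit
import Groth.Agent.Lefpen.H703.BaseLocus
import Groth.Agent.Lefpen.H705.LocTr
import Groth.Agent.Fano.K715.QuintDef

/-!
# Transversality of a hyperplane section at a point

* `exists_smul_of_mem_sq`: if the local equation of a linear form `V` at a closed point `x` of `V_+(F)` lies in the
  square of the maximal ideal then the gradient of `V` is a multiple of the gradient of `F` at `x`.
* `notMem_sq`: at the points of the curve `V_+(c_G q)`, under `Transv f q`.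
-/

set_option autoImplicit false
universe u

open CategoryTheory CategoryTheory.Limits AlgebraicGeometry TopologicalSpace Opposite

namespace K335.TransPt

open LefPen IsLocalRing Groth.Agent Groth.Agent.Lefpen.H705.HypIdeal Groth.Agent.Lefpen.H705.ChartPoly
open Groth.Agent.Lefpen.H705.SecIdeal Groth.Agent.Lefpen.H705.ClosedPoint
open Groth.Agent.Lefpen.H702.AffAlg Groth.Agent.Lefpen.H703.TransCrit Groth.Agent.Lefpen.H703.PtCoord
open Groth.Agent.Lefpen.H703.NondegQuadCrit Groth.Agent.Lefpen.H703.BaseLocus Groth.Agent.Lefpen.H705.LocTr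
open Groth.Agent.Divis.IdealComap Groth.Agent.Divis.CartierBasic Groth.Agent.Divis.CartierStalk
open Groth.Agent.Sga5

variable {r : ℕ} {k : Type u} [Field k]

theorem chartGerm_C (j : Fin (r + 1)) (y : CohB1.ProjSpace r k) (hy : y ∈ LefPen.chart r k j) (c : k) :
    chartGerm j y hy (MvPolynomial.C c) = toStalk k (CohB1.ProjSpace.toSpec r k) y c := by
  rw [chartGerm, RingHom.comp_apply, Groth.Agent.Lefpen.H705.PointCoord.polyToChart_C]
  have h := (CohB1.ProjSpace r k).presheaf.germ_res (homOfLE (le_top : LefPen.chart r k j ≤ ⊤)) y hy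
  exact congr($(h).hom ((CohB1.ProjSpace.toSpec r k).appTop.hom
    ((Scheme.ΓSpecIso (CommRingCat.of k)).inv.hom c)))

theorem germ_dehom (j : Fin (r + 1)) (y : CohB1.ProjSpace r k) (hy : y ∈ LefPen.chart r k j) {d : ℕ}
    (G : Form r k d) : ((CohB1.ProjSpace r k).presheaf.germ (LefPen.chart r k j) y hy).hom (LefPen.dehom G j) =
      chartGerm j y hy (ProjChart.dehom r k j G.1) := by
  rw [dehom_eq]
  rfl

/-- A point of `V_+(G)` has coordinates killing `G`. -/
theorem eval_eq_zero (j : Fin (r + 1)) (y : CohB1.ProjSpace r k) (hy : y ∈ LefPen.chart r k j) {a : Fin r → k}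
    (ha : ∀ (n : ℕ) (p : MvPolynomial (Fin r) k),
      chartGerm j y hy p ∈ maximalIdeal ((CohB1.ProjSpace r k).presheaf.stalk y) ^ n ↔ p ∈ ptIdeal a ^ n)
    {d : ℕ} (G : Form r k d) (hG : y ∈ (hypIdeal G).support) : MvPolynomial.eval (hcoord j a) G.1 = 0 := by
  rw [mem_support_iff_stalkIdeal_le, stalkIdeal_hypIdeal G j y hy, Ideal.span_le, Set.singleton_subset_iff,
    SetLike.mem_coe, germ_dehom] at hG
  have h1 := (ha 1 (ProjChart.dehom r k j G.1)).1 (by rw [pow_one]; exact hG)
  rw [pow_one, mem_ptIdeal_iff, eval_dehom] at h1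
  exact h1

theorem exists_smul_of_mem_sq [IsAlgClosed k] {d : ℕ} (F : Form r k (d + 1)) (V : Form r k 1)
    (x : (hypIdeal F).subscheme) (hx : IsClosed ({x} : Set (hypIdeal F).subscheme)) (j : Fin (r + 1))
    (hj : (hypIdeal F).subschemeι x ∈ LefPen.chart r k j) :
    ∃ a : Fin r → k, (∀ (n : ℕ) (p : MvPolynomial (Fin r) k),
        chartGerm j ((hypIdeal F).subschemeι x) hj p ∈
          maximalIdeal ((CohB1.ProjSpace r k).presheaf.stalk ((hypIdeal F).subschemeι x)) ^ n ↔
            p ∈ ptIdeal a ^ n) ∧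
      (stalkEqn (hypIdeal F).subschemeι j x hj V ∈ maximalIdeal ((hypIdeal F).subscheme.presheaf.stalk x) ^ 2 →
        ∃ c : k, ∀ l, MvPolynomial.eval (hcoord j a) (MvPolynomial.pderiv l V.1) =
          c * MvPolynomial.eval (hcoord j a) (MvPolynomial.pderiv l F.1)) := by
  let i := (hypIdeal F).subschemeι
  have hy : IsClosed ({i x} : Set (CohB1.ProjSpace r k)) := by
    rw [← Set.image_singleton]
    exact i.isClosedEmbedding.isClosedMap _ hx
  obtain ⟨a, ha⟩ := exists_coords j (i x) hj hy
  refine ⟨a, ha, fun hV => ?_⟩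
  have hFs : i x ∈ (hypIdeal F).support := by
    have : i x ∈ Set.range i.base := ⟨x, rfl⟩
    rw [Scheme.IdealSheafData.range_subschemeι] at this
    exact this
  have hFm : chartGerm j (i x) hj (ProjChart.dehom r k j F.1) ∈
      maximalIdeal ((CohB1.ProjSpace r k).presheaf.stalk (i x)) := by
    rw [mem_support_iff_stalkIdeal_le, stalkIdeal_hypIdeal F j (i x) hj, Ideal.span_le, Set.singleton_subset_iff,
      SetLike.mem_coe, germ_dehom] at hFs
    exact hFs
  have hsurj : Function.Surjective (i.stalkMap x).hom := stalkMap_subschemeι_surjective _ x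
  have hmax : (maximalIdeal ((CohB1.ProjSpace r k).presheaf.stalk (i x))).map (i.stalkMap x).hom =
      maximalIdeal ((hypIdeal F).subscheme.presheaf.stalk x) := by
    apply le_antisymm
    · rw [Ideal.map_le_iff_le_comap]
      intro w hw
      rw [Ideal.mem_comap, mem_maximalIdeal, mem_nonunits_iff]
      intro hu
      exact hw (isUnit_of_map_unit (i.stalkMap x).hom w hu)
    · intro z hz
      obtain ⟨w, rfl⟩ := hsurj z
      refine Ideal.mem_map_of_mem _ ?_
      rw [mem_maximalIdeal, mem_nonunits_iff] at hz ⊢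
      exact fun hw => hz (hw.map _)
  rw [← hmax, ← Ideal.map_pow, Ideal.mem_map_iff_of_surjective _ hsurj] at hV
  obtain ⟨s, hs, hsV⟩ := hV
  -- the difference lies in the kernel
  have h1 : ((CohB1.ProjSpace r k).presheaf.germ (LefPen.chart r k j) (i x) hj).hom (LefPen.dehom V j) - s ∈
      RingHom.ker (i.stalkMap x).hom := by
    rw [RingHom.mem_ker, map_sub, sub_eq_zero]
    exact hsV.symm
  have h2 : RingHom.ker (i.stalkMap x).hom = Ideal.span
      {((CohB1.ProjSpace r k).presheaf.germ (LefPen.chart r k j) (i x) hj).hom (LefPen.dehom F j)} := by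
    rw [← stalkIdeal_hypIdeal F j (i x) hj]
    exact ker_stalkMap_subschemeι _ x
  rw [h2, Ideal.mem_span_singleton', germ_dehom, germ_dehom] at h1
  obtain ⟨α, hα⟩ := h1
  have hsm : SmoothOfRelativeDimension r (CohB1.ProjSpace.toSpec r k) := ProjSmooth.smooth_toSpec r k
  have hsm' : Smooth (CohB1.ProjSpace.toSpec r k) := SmoothOfRelativeDimension.smooth r _
  obtain ⟨c, hc⟩ := exists_sub_toStalk_mem (CohB1.ProjSpace.toSpec r k) (i x) hy α
  rw [← chartGerm_C j (i x) hj] at hc
  refine ⟨c, ?_⟩
  -- the polynomial `T_j^d V - c F`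
  let P : MvPolynomial (Fin (r + 1)) k := MvPolynomial.X j ^ d * V.1 - MvPolynomial.C c * F.1
  have hP : P.IsHomogeneous (d + 1) := by
    have h3 : (MvPolynomial.X j ^ d * V.1).IsHomogeneous (1 * d + 1) :=
      ((MvPolynomial.isHomogeneous_X k j).pow d).mul ((MvPolynomial.mem_homogeneousSubmodule _ _).mp V.2)
    have h4 : (MvPolynomial.C c * F.1).IsHomogeneous (0 + (d + 1)) :=
      (MvPolynomial.isHomogeneous_C _ c).mul ((MvPolynomial.mem_homogeneousSubmodule _ _).mp F.2)
    rw [one_mul] at h3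
    rw [zero_add] at h4
    exact h3.sub h4
  have hPd : ProjChart.dehom r k j P = ProjChart.dehom r k j V.1 - MvPolynomial.C c * ProjChart.dehom r k j F.1 := by
    simp only [P, map_sub, map_mul, map_pow, ProjChart.dehom_X_self, one_pow, one_mul, ProjChart.dehom_C]
  have h5 : chartGerm j (i x) hj (ProjChart.dehom r k j P) ∈
      maximalIdeal ((CohB1.ProjSpace r k).presheaf.stalk (i x)) ^ 2 := by
    rw [hPd, map_sub, map_mul]
    have h6 : chartGerm j (i x) hj (ProjChart.dehom r k j V.1) -
        chartGerm j (i x) hj (MvPolynomial.C c) * chartGerm j (i x) hj (ProjChart.dehom r k j F.1) =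
        s + (α - chartGerm j (i x) hj (MvPolynomial.C c)) * chartGerm j (i x) hj (ProjChart.dehom r k j F.1) := by
      linear_combination -hα
    rw [h6]
    refine Ideal.add_mem _ hs ?_
    rw [pow_two]
    exact Ideal.mul_mem_mul hc hFm
  have h7 := (dehom_mem_ptIdeal_sq_iff j a hP).1 ((ha 2 _).1 h5)
  have hVz : MvPolynomial.eval (hcoord j a) V.1 = 0 := by
    have h8 := h7.1
    have hFz := eval_eq_zero j (i x) hj ha F hFs
    have hj1 : hcoord j a j = 1 := by simp [hcoord]
    simp only [P, map_sub, map_mul, map_pow, MvPolynomial.eval_X, MvPolynomial.eval_C, hj1, one_pow, one_mul,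
      hFz, mul_zero, sub_zero] at h8
    exact h8
  intro l
  have h9 := h7.2 l
  have hj1 : hcoord j a j = 1 := by simp [hcoord]
  simp only [P, map_sub, Derivation.leibniz, smul_eq_mul, map_add, map_mul, map_pow, MvPolynomial.eval_X,
    MvPolynomial.eval_C, hj1, one_pow, one_mul, hVz, zero_mul, MvPolynomial.pderiv_C, mul_zero, add_zero] at h9
  linear_combination h9

open Groth.Agent.Fano.K714.Rat Groth.Agent.Fano.K714.Quart Groth.Agent.Fano.K715.Quint

theorem eval_pderiv_lin (v z : Fin 5 → k) (l : Fin 5) :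
    MvPolynomial.eval z (MvPolynomial.pderiv l (lin v).1) = v l := by
  have h1 : (lin v).1 = ∑ i, v i • (MvPolynomial.X i : MvPolynomial (Fin 5) k) := by
    simp [lin]
  rw [h1, map_sum, map_sum, Finset.sum_eq_single l]
  · rw [Derivation.map_smul, MvPolynomial.pderiv_X_self, MvPolynomial.smul_eval, map_one, mul_one]
  · intro b _ hb
    rw [Derivation.map_smul, MvPolynomial.pderiv_X_of_ne hb, smul_zero, map_zero]
  · intro h; exact absurd (Finset.mem_univ _) h

theorem notMem_sq [IsAlgClosed k] (f : Form 4 k 3) (q : DataG k) (hq : q.1 ∈ Sol f) (ht : Transv f q) (x : Xf f)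
    (hx : IsClosed ({x} : Set (Xf f))) (hxc : emb f x ∈ (cG q).support) (j : Fin 5)
    (hj : emb f x ∈ LefPen.chart 4 k j) :
    stalkEqn (emb f) j x hj (lin (q.1.1 0)) ∉ maximalIdeal ((Xf f).presheaf.stalk x) ^ 2 := by
  intro hV
  obtain ⟨a, ha, h⟩ := exists_smul_of_mem_sq (d := 2) f (lin (q.1.1 0)) x hx j hj
  obtain ⟨c, hc⟩ := h hV
  have hsup : ∀ {d : ℕ} (G : Form 4 k d), hypIdeal G ≤ cG q → emb f x ∈ (hypIdeal G).support := fun G hG =>
    Scheme.IdealSheafData.support_antitone hG hxc
  have hz : ∀ {d : ℕ} (G : Form 4 k d), hypIdeal G ≤ cG q → MvPolynomial.eval (hcoord j a) G.1 = 0 := fun G hG =>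
    eval_eq_zero j _ hj ha G (hsup G hG)
  refine ht (hcoord j a) (hcoord_ne_zero j a) (hz _ ?_) (hz _ ?_) (hz _ ?_) (hz _ ?_) ?_
  · exact le_sup_left.trans (le_sup_left.trans le_sup_left)
  · exact le_sup_right.trans (le_sup_left.trans le_sup_left)
  · exact le_sup_right.trans le_sup_left
  · exact le_sup_right
  · have hc0 : c ≠ 0 := by
      rintro rfl
      have h0 : q.1.1 0 = 0 := by
        funext l
        have := hc l
        rwa [eval_pderiv_lin, zero_mul] at this
      exact hq.1.ne_zero 0 h0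
    refine ⟨c⁻¹, fun l => ?_⟩
    have := hc l
    rw [eval_pderiv_lin] at this
    rw [this, inv_mul_cancel_left₀ hc0]

end K335.TransPt
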