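import Groth.Agent.Fano.K335.SubBun
import Groth.Agent.Fano.K335.TransPt
import Groth.Agent.Lift.K934.HypIso
import Groth.Agent.Lefpen.H21.PicTwist
import Groth.Agent.VBCurve.K703.Det2

/-!
# The hyperplane direction in the conormal bundle of the curve `V_+(c_G q)` in the cubic threefold

`seq`: a monomorphism `O_C(-1) ⟶ C_{C/X}` with finite locally free cokernel.
-/

set_option autoImplicit false
universe u

open CategoryTheory CategoryTheory.Limits AlgebraicGeometry TopologicalSpace Opposite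

namespace K335.QuintSeq

open LefPen IsLocalRing Groth.Agent Groth.Agent.Lefpen.H705.HypIdeal Groth.Agent.Lefpen.H705.ChartPoly
open Groth.Agent.Lefpen.H705.SecIdeal Groth.Agent.Fdesc.LocGen Groth.Agent.Dix.IdealModCartier K934.HypIso
open Groth.Agent.Fano.K714.Rat Groth.Agent.Fano.K714.Quart Groth.Agent.Fano.K715.Quint K335.SubBun K335.TransPt

variable {k : Type u} [Field k]

theorem germ_le {N b : ℕ} {X : Scheme.{u}} (ι : X ⟶ CohB1.ProjSpace N k) (H : Form N k b) (z : X) (j : Fin (N + 1))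
    (hj : ι z ∈ chart N k j) : X.presheaf.germ (ι ⁻¹ᵁ chart N k j) z hj (le ι j H) = stalkEqn ι j z hj H := by
  rw [le_eq_eqn]
  exact germ_eqn ι j _ le_rfl z hj H

/-- On an integral scheme a form with one nonzero germ is a nonzerodivisor on all charts. -/
theorem le_mem_nonZeroDivisors {N b : ℕ} {X : Scheme.{u}} (ι : X ⟶ CohB1.ProjSpace N k) [IsIntegral X]
    (H : Form N k b) (z : X)
    (h : ∀ (j : Fin (N + 1)) (hj : ι z ∈ chart N k j), stalkEqn ι j z hj H ≠ 0) (i : Fin (N + 1)) :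
    le ι i H ∈ nonZeroDivisors Γ(X, ι ⁻¹ᵁ chart N k i) := by
  by_contra hi
  have hne : Nonempty (ι ⁻¹ᵁ chart N k i) := by
    by_contra hE
    rw [not_nonempty_iff] at hE
    apply hi
    have : Subsingleton Γ(X, ι ⁻¹ᵁ chart N k i) := by
      have h5 : ι ⁻¹ᵁ chart N k i = ⊥ := by
        ext x
        exact ⟨fun hx => (hE.false ⟨x, hx⟩).elim, fun hx => hx.elim⟩
      rw [h5]
      infer_instance
    rw [mem_nonZeroDivisors_iff]
    exact ⟨fun x _ => Subsingleton.elim _ _, fun x _ => Subsingleton.elim _ _⟩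
  have hi0 : le ι i H = 0 := by
    by_contra h0
    exact hi (mem_nonZeroDivisors_of_ne_zero h0)
  obtain ⟨j, hj⟩ := Groth.Agent.PerfB.ProjSpaceCover.exists_mem_basicOpen_X N k (ι z)
  have h6 := ores_le ι j i H
  rw [hi0, map_zero, mul_zero] at h6
  have h7 : Nonempty (ι ⁻¹ᵁ chart N k j ⊓ ι ⁻¹ᵁ chart N k i : X.Opens) := by
    obtain ⟨x, hx⟩ := (PreirreducibleSpace.isPreirreducible_univ (X := X)) _ _ (ι ⁻¹ᵁ chart N k j).2
      (ι ⁻¹ᵁ chart N k i).2 ⟨z, trivial, hj⟩ ⟨hne.some.1, trivial, hne.some.2⟩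
    exact ⟨⟨x, hx.2⟩⟩
  have h8 : le ι j H = 0 := by
    have : Nonempty (ι ⁻¹ᵁ chart N k j) := ⟨⟨z, hj⟩⟩
    exact (map_eq_zero_iff _ (map_injective_of_isIntegral X
      (homOfLE (inf_le_left : ι ⁻¹ᵁ chart N k j ⊓ ι ⁻¹ᵁ chart N k i ≤ ι ⁻¹ᵁ chart N k j)))).1 h6
  apply h j hj
  rw [← germ_le, h8, map_zero]

variable [IsAlgClosed k]

theorem seq (f : Form 4 k 3) [Smooth (ps f)] [IsIntegral (Xf f)] (q : DataG k) (hq : q.1 ∈ Sol f) (ht : Transv f q)
    (i : (cG q).subscheme ⟶ Xf f) [IsClosedImmersion i] (hi : i ≫ emb f = (cG q).subschemeι)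
    (hker : i.ker = (cG q).comap (emb f)) [Nonempty (cG q).subscheme]
    (hE : FlatMod.IsFinLocFree (Omega.conormal i)) :
    ∃ (L : (cG q).subscheme.Modules) (φ : L ⟶ Omega.conormal i), Mono φ ∧ PicF.IsInvertible L ∧
      Nonempty (L ≅ (Scheme.Modules.pullback (i ≫ emb f)).obj (Twist.twistProjSpace 4 k (-1))) ∧
      FlatMod.IsFinLocFree (cokernel φ) := by
  let C := (cG q).subscheme
  have hlft : LocallyOfFiniteType (i ≫ ps f) := inferInstance
  have hsup : ∀ z : C, emb f (i z) ∈ (cG q).support := by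
    intro z
    have h1 : (cG q).subschemeι z ∈ Set.range (cG q).subschemeι.base := ⟨z, rfl⟩
    rw [Scheme.IdealSheafData.range_subschemeι] at h1
    have h2 : emb f (i z) = (cG q).subschemeι z := by
      rw [← Scheme.Hom.comp_apply, hi]
    rw [h2]
    exact h1
  have hcl : ∀ z : C, IsClosed ({z} : Set C) → IsClosed ({i z} : Set (Xf f)) := by
    intro z hz
    rw [← Set.image_singleton]
    exact i.isClosedEmbedding.isClosedMap _ hz
  have hnot : ∀ z : C, IsClosed ({z} : Set C) → ∀ (j : Fin 5) (hj : emb f (i z) ∈ chart 4 k j),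
      stalkEqn (emb f) j (i z) hj (lin (q.1.1 0)) ∉ maximalIdeal ((Xf f).presheaf.stalk (i z)) ^ 2 := by
    intro z hz j hj
    exact notMem_sq f q hq ht (i z) (hcl z hz) (hsup z) j hj
  obtain ⟨z0, hz0⟩ : ∃ z : C, IsClosed ({z} : Set C) := by
    by_contra hcon
    push Not at hcon
    have h1 := Lefpen.H703.ClosedSmooth.opens_eq_top (i ≫ ps f) (⊥ : C.Opens) fun z hz => absurd hz (hcon z)
    obtain ⟨z⟩ := (inferInstance : Nonempty C)
    have h2 : z ∈ (⊥ : C.Opens) := by rw [h1]; trivial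
    exact h2
  have hreg := le_mem_nonZeroDivisors (emb f) (lin (q.1.1 0)) (i z0) fun j hj h0 =>
    hnot z0 hz0 j hj (h0 ▸ Ideal.zero_mem _)
  let K : (Xf f).IdealSheafData := (hypIdeal (lin (q.1.1 0))).comap (emb f)
  have hK : K ≤ i.ker := by
    rw [hker]
    exact Scheme.IdealSheafData.comap_mono (emb f) (le_sup_left.trans (le_sup_left.trans le_sup_left))
  obtain ⟨l, hl⟩ := exists_incl hK
  obtain ⟨e⟩ := K934.HypIso.nonempty_iso (emb f) (lin (q.1.1 0)) hreg
  have hinv : PicF.IsInvertible ((Scheme.Modules.pullback (i ≫ emb f)).obj (Twist.twistProjSpace 4 k (-1))) :=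
    Groth.Agent.Lefpen.H21.PicTwist.isInvertible_pullback_twist _ _
  let e' : (Scheme.Modules.pullback i).obj (ClSub.idealMod K) ≅
      (Scheme.Modules.pullback (i ≫ emb f)).obj (Twist.twistProjSpace 4 k (-1)) :=
    (Scheme.Modules.pullback i).mapIso e ≪≫ (Scheme.Modules.pullbackComp i (emb f)).app _
  have hinv' : PicF.IsInvertible ((Scheme.Modules.pullback i).obj (ClSub.idealMod K)) := fun x => by
    obtain ⟨U, hx, ⟨g⟩⟩ := hinv x
    exact ⟨U, hx, ⟨(Scheme.Modules.restrictFunctor U.ι).mapIso e' ≪≫ g⟩⟩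
  have hmain := SubBun.main i (i ≫ ps f) l hl (Ega2.QCohLocal.isFinLocFree_of_rank (K703.Det2.inv_iff.2 hinv')) hE (by
    intro z hz
    obtain ⟨j, hj⟩ := Groth.Agent.PerfB.ProjSpaceCover.exists_mem_basicOpen_X 4 k (emb f (i z))
    obtain ⟨n, hn⟩ := exists_val_eq K ⟨emb f ⁻¹ᵁ chart 4 k j, aff (emb f) j⟩ (a := le (emb f) j (lin (q.1.1 0))) (by
      rw [comap_ideal]; exact Ideal.mem_span_singleton_self _)
    refine ⟨emb f ⁻¹ᵁ chart 4 k j, hj, n, ?_, ?_⟩
    · exact isGen_of_genOn (hn.symm ▸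
        genOn_of_affine (U := ⟨emb f ⁻¹ᵁ chart 4 k j, aff (emb f) j⟩) (hreg j)
          (comap_ideal (emb f) (lin (q.1.1 0)) j))
    · rw [hn, germ_le]
      exact hnot z hz j hj)
  exact ⟨_, (Scheme.Modules.pullback i).map l, hmain.1, hinv', ⟨e'⟩, hmain.2⟩

end K335.QuintSeq
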