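import Groth.Agent.AbSch.K450.OpenMono
import Groth.Agent.Variety.K430.DivHom
import Groth.Agent.CycB.PushStalk
import Groth.Agent.Dix.IdealModCartier
import Groth.Agent.Sga2.LefPow644
import Groth.Agent.Lefpen.H703.ClosedSmooth

/-!
# Sub-line-bundles of the conormal module

`i : C ⟶ X` a closed immersion, `K ≤ i.ker` an ideal whose local equations do not lie in the square of the maximal
ideal of `O_{X, i z}` at the closed points `z` of `C`: then `i^* K ⟶ i^* i.ker` is a monomorphism with finite locally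
free cokernel.
-/

set_option autoImplicit false
universe u

open CategoryTheory CategoryTheory.Limits AlgebraicGeometry TopologicalSpace Opposite
open scoped TensorProduct

namespace K335.SubBun

open Groth.Agent Groth.Agent.CycB.StalkExact Groth.Agent.Fdesc.PullbackStalk Groth.Agent.PerfC.FlatExact
open Groth.Agent.Fdesc.LocGen Groth.Agent.Dix.IdealModCartier K654.StalkPull IsLocalRing

theorem exists_incl {X : Scheme.{u}} {I J : X.IdealSheafData} (h : I ≤ J) :
    ∃ φ : ClSub.idealMod I ⟶ ClSub.idealMod J, φ ≫ ClSub.idealModι J = ClSub.idealModι I := by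
  have h1 : ClSub.idealModι I ≫ ClSub.toSubscheme J = 0 := by
    have h2 : ClSub.idealModι I ≫ ClSub.toSubscheme I = 0 := kernel.condition _
    rw [← Sga2.LefPow644.toSubscheme_quotMap h, ← Category.assoc, h2, zero_comp]
  exact ⟨kernel.lift _ _ h1, kernel.lift_ι _ _ _⟩

/-- Algebra: if `e` generates `L` and the value of `θ (g e)` is not in `m²`, where `θ` has values in `m`, then `g` is
injective after base change to a field along a local homomorphism. -/
theorem lTensor_injective_of_notMem_sq {A B : Type u} [CommRing A] [IsLocalRing A] [CommRing B] [Algebra A B]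
    [IsLocalHom (algebraMap A B)] (hB : IsField B) {L N : Type u} [AddCommGroup L] [Module A L] [AddCommGroup N]
    [Module A N] (e : L) (he : ∀ y : L, ∃ a : A, y = a • e) (g : L →ₗ[A] N) (θ : N →ₗ[A] A)
    (hθ : ∀ n, θ n ∈ maximalIdeal A) (h : θ (g e) ∉ maximalIdeal A ^ 2) :
    Function.Injective (g.lTensor B) := by
  let κ := ResidueField A
  have hker : ∀ a : A, a ∈ maximalIdeal A → algebraMap A B a = 0 := by
    intro a ha
    by_contra h0
    obtain ⟨b, hb⟩ := hB.mul_inv_cancel h0
    have h1 : IsUnit (algebraMap A B a) := IsUnit.of_mul_eq_one b hb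
    exact ha (isUnit_of_map_unit (algebraMap A B) a h1)
  let f : κ →+* B := Ideal.Quotient.lift _ (algebraMap A B) hker
  let : Algebra κ B := f.toAlgebra
  have : IsScalarTower A κ B := IsScalarTower.of_algebraMap_eq fun a => rfl
  have : Nontrivial B := hB.nontrivial
  -- the value in the cotangent space
  let θ' : N →ₗ[A] (maximalIdeal A) := LinearMap.codRestrict _ θ hθ
  let c : N →ₗ[A] CotangentSpace A := (maximalIdeal A).toCotangent ∘ₗ θ'
  have hc : c (g e) ≠ 0 := by
    intro h0
    exact h ((Ideal.toCotangent_eq_zero _ _).1 h0)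
  obtain ⟨lam, hlam⟩ : ∃ lam : CotangentSpace A →ₗ[κ] κ, lam (c (g e)) ≠ 0 := by
    by_contra hcon
    push Not at hcon
    exact hc ((Module.forall_dual_apply_eq_zero_iff κ _).1 hcon)
  let μ : N →ₗ[A] B := (Algebra.linearMap κ B).restrictScalars A ∘ₗ lam.restrictScalars A ∘ₗ c
  have hμ : μ (g e) ≠ 0 := by
    change algebraMap κ B (lam (c (g e))) ≠ 0
    intro h0
    exact hlam ((map_eq_zero_iff _ (FaithfulSMul.algebraMap_injective κ B)).1 h0)
  let ev : B ⊗[A] N →ₗ[A] B := TensorProduct.lift ((LinearMap.mul' A B).comp (TensorProduct.map LinearMap.id μ) |> fun t =>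
    TensorProduct.curry t)
  have hev : ∀ (b : B) (n : N), ev (b ⊗ₜ n) = b * μ n := fun b n => rfl
  have hdom := hB.isDomain
  have key : ∀ y : B ⊗[A] L, ∃ b : B, y = b ⊗ₜ e := by
    intro y
    induction y using TensorProduct.induction_on with
    | zero => exact ⟨0, (TensorProduct.zero_tmul _ _).symm⟩
    | tmul b l =>
      obtain ⟨a, rfl⟩ := he l
      exact ⟨a • b, by rw [TensorProduct.tmul_smul, TensorProduct.smul_tmul']⟩
    | add x y hx hy =>
      obtain ⟨b, rfl⟩ := hx
      obtain ⟨b', rfl⟩ := hy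
      exact ⟨b + b', (TensorProduct.add_tmul _ _ _).symm⟩
  rw [injective_iff_map_eq_zero]
  intro y hy
  obtain ⟨b, rfl⟩ := key y
  rw [LinearMap.lTensor_tmul] at hy
  have h1 : b * μ (g e) = 0 := by rw [← hev, hy, map_zero]
  rcases mul_eq_zero.1 h1 with h2 | h2
  · rw [h2, TensorProduct.zero_tmul]
  · exact absurd h2 hμ

variable {C X : Scheme.{u}}

/-- The stalk of the inclusion of an ideal. -/
noncomputable def stalkVal (I : X.IdealSheafData) (x : X) :
    (ClSub.idealMod I).presheaf.stalk x →ₗ[X.presheaf.stalk x] X.presheaf.stalk x :=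
  (CycB.PushStalk.unitStalk X x).symm.toLinearMap ∘ₗ stalkLin (ClSub.idealModι I) x

theorem stalkVal_germ (I : X.IdealSheafData) (x : X) {U : X.Opens} (hx : x ∈ U) (s : Γ(ClSub.idealMod I, U)) :
    stalkVal I x ((ClSub.idealMod I).presheaf.germ U x hx s) = X.presheaf.germ U x hx (val I s) := by
  change (CycB.PushStalk.unitStalk X x).symm (stalkLin (ClSub.idealModι I) x
    ((ClSub.idealMod I).presheaf.germ U x hx s)) = _
  rw [LinearEquiv.symm_apply_eq, stalkLin_germ]
  exact (CycB.PushStalk.unitStalkLin_germ x U hx (val I s)).symm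

theorem stalkVal_mem (i : C ⟶ X) [QuasiCompact i] (z : C) (n : (ClSub.idealMod i.ker).presheaf.stalk (i z)) :
    stalkVal i.ker (i z) n ∈ maximalIdeal (X.presheaf.stalk (i z)) := by
  obtain ⟨U, hU, s, rfl⟩ := (ClSub.idealMod i.ker).presheaf.exists_germ_eq n
  rw [stalkVal_germ]
  obtain ⟨V, hV, hVU⟩ := exists_affine_mem_le U (i z) hU
  have h1 : X.presheaf.germ U (i z) hU (val i.ker s) =
      X.presheaf.germ V.1 (i z) hV (val i.ker (res _ hVU s)) := by
    rw [val_res]
    exact (TopCat.Presheaf.germ_res_apply X.presheaf (homOfLE hVU) _ hV _).symm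
  rw [h1]
  have h2 : val i.ker (res _ hVU s) ∈ i.ker.ideal V := val_mem _ _ _
  rw [Scheme.Hom.ker_apply, RingHom.mem_ker] at h2
  rw [mem_maximalIdeal, mem_nonunits_iff]
  intro hu
  have h3 : IsUnit ((i.stalkMap z).hom (X.presheaf.germ V.1 (i z) hV (val i.ker (res _ hVU s)))) := hu.map _
  have h4 : (i.stalkMap z).hom (X.presheaf.germ V.1 (i z) hV (val i.ker (res _ hVU s))) =
      C.presheaf.germ (i ⁻¹ᵁ V.1) z hV ((i.app V.1).hom (val i.ker (res _ hVU s))) :=
    Scheme.Hom.germ_stalkMap_apply i V.1 z hV _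
  rw [h4, h2, map_zero] at h3
  exact not_isUnit_zero h3

/-- The fibre criterion. -/
theorem mono_fibre (i : C ⟶ X) [QuasiCompact i] (z : C) {K : X.IdealSheafData}
    (l : ClSub.idealMod K ⟶ ClSub.idealMod i.ker) (hl : l ≫ ClSub.idealModι i.ker = ClSub.idealModι K)
    {U : X.Opens} (hU : i z ∈ U) (n : Γ(ClSub.idealMod K, U)) (hn : IsGen n)
    (h : X.presheaf.germ U (i z) hU (val K n) ∉ maximalIdeal (X.presheaf.stalk (i z)) ^ 2) :
    Mono ((Scheme.Modules.pullback (C.fromSpecResidueField z)).map ((Scheme.Modules.pullback i).map l)) := by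
  let g := C.fromSpecResidueField z
  have h1 : Mono ((Scheme.Modules.pullback (g ≫ i)).map l) := by
    rw [mono_iff_stalkLin]
    intro t
    rw [stalkLin_pullback_injective_iff]
    let := stalkAlg (g ≫ i) t
    have hgt : g t = z := by
      have : g t ∈ Set.range g := ⟨t, rfl⟩
      rw [Scheme.range_fromSpecResidueField] at this
      exact this
    have hit : (g ≫ i) t = i z := by rw [Scheme.Hom.comp_apply, hgt]
    have : IsLocalHom (algebraMap (X.presheaf.stalk ((g ≫ i) t)) ((Spec (C.residueField z)).presheaf.stalk t)) :=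
      inferInstanceAs (IsLocalHom ((g ≫ i).stalkMap t).hom)
    have hU' : (g ≫ i) t ∈ U := by rw [hit]; exact hU
    have hsq : ∀ (y : X) (hy : y = i z) (hyU : y ∈ U),
        X.presheaf.germ U y hyU (val K n) ∉ maximalIdeal (X.presheaf.stalk y) ^ 2 := by
      rintro y rfl hyU
      exact h
    have hmem : ∀ (y : X) (hy : y = i z) (m : (ClSub.idealMod i.ker).presheaf.stalk y),
        stalkVal i.ker y m ∈ maximalIdeal (X.presheaf.stalk y) := by
      rintro y rfl m
      exact stalkVal_mem i z m
    refine lTensor_injective_of_notMem_sq (B := (Spec (C.residueField z)).presheaf.stalk t)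
      (CycB.FiberKer.isField_stalk_Spec_of_isField _ (Field.toIsField _) t)
      ((ClSub.idealMod K).presheaf.germ U _ hU' n)
      (fun y => K430.DivHom.exists_germ_smul hn hU' y) _ (stalkVal i.ker _) (hmem _ hit) ?_
    have h3 : stalkVal i.ker ((g ≫ i) t) (stalkLin l ((g ≫ i) t) ((ClSub.idealMod K).presheaf.germ U _ hU' n)) =
        X.presheaf.germ U _ hU' (val K n) := by
      rw [stalkLin_germ, stalkVal_germ]
      congr 1
      change (l ≫ ClSub.idealModι i.ker).app U n = (ClSub.idealModι K).app U n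
      rw [hl]
    rw [h3]
    exact hsq _ hit hU'
  have h2 := (Scheme.Modules.pullbackComp g i).hom.naturality l
  change (Scheme.Modules.pullback g).map ((Scheme.Modules.pullback i).map l) ≫ _ = _ at h2
  have h3 : (Scheme.Modules.pullback g).map ((Scheme.Modules.pullback i).map l) =
      (Scheme.Modules.pullbackComp g i).hom.app _ ≫ (Scheme.Modules.pullback (g ≫ i)).map l ≫
        (Scheme.Modules.pullbackComp g i).inv.app _ := by
    rw [← Category.assoc, ← h2, Category.assoc, Iso.hom_inv_id_app]
    exact (Category.comp_id _).symm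
  change Mono ((Scheme.Modules.pullback g).map ((Scheme.Modules.pullback i).map l))
  rw [h3]
  infer_instance

/-- `i^* K ⟶ i^* i.ker` is a monomorphism with finite locally free cokernel. -/
theorem main {k : Type u} [Field k] (i : C ⟶ X) [QuasiCompact i] (s : C ⟶ Spec (CommRingCat.of k))
    [LocallyOfFiniteType s] {K : X.IdealSheafData}
    (l : ClSub.idealMod K ⟶ ClSub.idealMod i.ker) (hl : l ≫ ClSub.idealModι i.ker = ClSub.idealModι K)
    (hK : FlatMod.IsFinLocFree ((Scheme.Modules.pullback i).obj (ClSub.idealMod K)))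
    (hE : FlatMod.IsFinLocFree ((Scheme.Modules.pullback i).obj (ClSub.idealMod i.ker)))
    (h : ∀ z : C, IsClosed ({z} : Set C) → ∃ (U : X.Opens) (hU : i z ∈ U) (n : Γ(ClSub.idealMod K, U)), IsGen n ∧
      X.presheaf.germ U (i z) hU (val K n) ∉ maximalIdeal (X.presheaf.stalk (i z)) ^ 2) :
    Mono ((Scheme.Modules.pullback i).map l) ∧
      FlatMod.IsFinLocFree (cokernel ((Scheme.Modules.pullback i).map l)) := by
  let O : C.Opens := ⟨_, K450.OpenMono.isOpen_mono hK hE ((Scheme.Modules.pullback i).map l)⟩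
  have hO : O = ⊤ := Lefpen.H703.ClosedSmooth.opens_eq_top s O fun z hz => by
    obtain ⟨U, hU, n, hn, hsq⟩ := h z hz
    exact mono_fibre i z l hl hU n hn hsq
  refine K654.MonoLF.main (Dcoh.FTFP.isFT_of_epi_finLocFree hK (𝟙 _)) hE _ fun z => ?_
  have : z ∈ O := by rw [hO]; trivial
  exact this

end K335.SubBun
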